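import Groth.Agent.LocFlat.Basic

set_option autoImplicit false

/-! Flatness from flatness off `V(f)` and regularity of `f` on the closed fibre. -/

universe u

namespace Groth.Agent.FlatOff

open TensorProduct IsLocalRing LocFlat

variable {R S : Type u} [CommRing R] [CommRing S] [Algebra R S]
  {M : Type u} [AddCommGroup M] [Module R M] [Module S M] [IsScalarTower R S M]

variable (R M) in
/-- Multiplication by `f` as an `R`-linear map. -/
def mulMap (f : S) : M →ₗ[R] M := (LinearMap.lsmul S M f).restrictScalars R

lemma rTensor_mulMap (f : S) {L : Type u} [AddCommGroup L] [Module R L] (z : M ⊗[R] L) :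
    (mulMap R M f).rTensor L z = f • z := by
  induction z using TensorProduct.induction_on with
  | zero => simp
  | add x y hx hy => rw [map_add, hx, hy, smul_add]
  | tmul x y => rfl

/-- Kernels after tensoring are `f`-power torsion when `M` is flat off `V(f)`. -/
lemma exists_pow_smul_eq_zero (f : S)
    (hU : ∀ q : Ideal S, [q.IsPrime] → f ∉ q → Module.Flat R (LocalizedModule q.primeCompl M))
    {L₁ L₂ : Type u} [AddCommGroup L₁] [Module R L₁] [AddCommGroup L₂] [Module R L₂]
    (i : L₁ →ₗ[R] L₂) (hi : Function.Injective i) (z : M ⊗[R] L₁) (hz : i.lTensor M z = 0) :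
    ∃ n : ℕ, f ^ n • z = 0 := by
  suffices f ∈ Ideal.radical (LinearMap.ker (LinearMap.toSpanSingleton S _ z) : Ideal S) from this
  rw [Ideal.radical_eq_sInf, Submodule.mem_sInf]
  rintro (q : Ideal S) ⟨hle, hq⟩
  by_contra hf
  have := hU q hf
  let g : M →ₗ[S] LocalizedModule q.primeCompl M := LocalizedModule.mkLinearMap _ _
  let gr : M →ₗ[R] LocalizedModule q.primeCompl M := g.restrictScalars R
  have h0 : (gr.rTensor L₁) z = 0 := by
    apply Module.Flat.lTensor_preserves_injective_linearMap
      (M := LocalizedModule q.primeCompl M) i hi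
    rw [map_zero, ← LinearMap.comp_apply, LinearMap.lTensor_comp_rTensor,
      ← LinearMap.rTensor_comp_lTensor, LinearMap.comp_apply, hz, map_zero]
  obtain ⟨s, hs⟩ := (IsLocalizedModule.eq_zero_iff q.primeCompl
    (AlgebraTensorModule.rTensor R L₁ g)).1 h0
  exact s.2 (hle hs)

variable [IsLocalRing R]

/-- `f` is regular on `M ⊗ L` for `L` killed by a power of the maximal ideal. -/
lemma rTensor_mulMap_injective (f : S)
    (hU : ∀ q : Ideal S, [q.IsPrime] → f ∉ q → Module.Flat R (LocalizedModule q.primeCompl M))
    (hf : Function.Injective ((mulMap R M f).lTensor (ResidueField R))) (n : ℕ) :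
    ∀ (L : Type u) [AddCommGroup L] [Module R L],
      maximalIdeal R ^ n • (⊤ : Submodule R L) = ⊥ → Function.Injective ((mulMap R M f).rTensor L) := by
  induction n with
  | zero =>
    intro L _ _ h
    rw [pow_zero, Ideal.one_eq_top, Submodule.top_smul] at h
    have : Subsingleton L := subsingleton_of_forall_eq 0 fun x ↦ by
      have : x ∈ (⊤ : Submodule R L) := trivial
      rwa [h, Submodule.mem_bot] at this
    exact Function.injective_of_subsingleton _
  | succ n ih =>
    intro L _ _ h
    let U : Submodule R L := maximalIdeal R • ⊤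
    have hUk : maximalIdeal R ^ n • (⊤ : Submodule R U) = ⊥ := by
      apply Submodule.map_injective_of_injective U.subtype_injective
      rw [Submodule.map_smul'', Submodule.map_top, Submodule.range_subtype, Submodule.map_bot]
      show maximalIdeal R ^ n • maximalIdeal R • (⊤ : Submodule R L) = ⊥
      rw [← Submodule.mul_smul, ← pow_succ, h]
    have h1 := ih U hUk
    have h2 : Function.Injective ((mulMap R M f).rTensor (L ⧸ U)) :=
      (LinearMap.lTensor_inj_iff_rTensor_inj _ _).mp (lTensor_injective_of_residue _ hf)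
    have hinj : Function.Injective (U.subtype.lTensor M) := by
      rw [injective_iff_map_eq_zero]
      intro z hz
      obtain ⟨k, hk⟩ := exists_pow_smul_eq_zero f hU U.subtype U.subtype_injective z hz
      clear hz
      induction k generalizing z with
      | zero => simpa using hk
      | succ k ihk =>
        rw [pow_succ, mul_smul] at hk
        have := ihk (f • z) hk
        rw [← rTensor_mulMap] at this
        exact h1 (by rw [this, map_zero])
    rw [injective_iff_map_eq_zero]
    intro z hz
    have h3 : U.mkQ.lTensor M z = 0 := by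
      apply h2
      rw [map_zero, ← LinearMap.comp_apply, LinearMap.rTensor_comp_lTensor,
        ← LinearMap.lTensor_comp_rTensor, LinearMap.comp_apply, hz, map_zero]
    obtain ⟨w, rfl⟩ :=
      (lTensor_exact M (LinearMap.exact_subtype_mkQ U) U.mkQ_surjective z).mp h3
    rw [← LinearMap.comp_apply, LinearMap.rTensor_comp_lTensor,
      ← LinearMap.lTensor_comp_rTensor, LinearMap.comp_apply] at hz
    have : w = 0 := h1 (hinj (by rw [hz, map_zero, map_zero]))
    rw [this, map_zero]

/-- Flat off `V(f)` plus `f` regular on the closed fibre gives flatness. -/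
theorem flat_of_regular_fibre [IsLocalRing S] [IsNoetherianRing R] [IsNoetherianRing S]
    [IsLocalHom (algebraMap R S)] [Module.Finite S M] (f : S)
    (hU : ∀ q : Ideal S, [q.IsPrime] → f ∉ q → Module.Flat R (LocalizedModule q.primeCompl M))
    (hf : Function.Injective ((mulMap R M f).lTensor (ResidueField R))) : Module.Flat R M := by
  refine flat_of_forall_mem_range (S := S) (maximalIdeal R) map_le_jacobson fun J z hz n ↦ ?_
  let P : Ideal R := maximalIdeal R ^ n
  let U : Submodule R J := Submodule.comap J.subtype (J ⊓ P)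
  let φ : (↥J ⧸ U) →ₗ[R] R ⧸ P := U.liftQ (P.mkQ ∘ₗ J.subtype) fun x hx ↦ by
    simp only [LinearMap.mem_ker, LinearMap.comp_apply, Submodule.mkQ_apply,
      Submodule.Quotient.mk_eq_zero]
    exact hx.2
  have hφ : Function.Injective φ := by
    rw [← LinearMap.ker_eq_bot, Submodule.eq_bot_iff]
    intro y hy
    obtain ⟨x, rfl⟩ := Submodule.Quotient.mk_surjective _ y
    rw [Submodule.Quotient.mk_eq_zero]
    exact ⟨x.2, (Submodule.Quotient.mk_eq_zero P).1 hy⟩
  have hk : maximalIdeal R ^ n • (⊤ : Submodule R (↥J ⧸ U)) = ⊥ := by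
    rw [eq_bot_iff, Submodule.smul_le]
    intro a ha y _
    obtain ⟨x, rfl⟩ := Submodule.Quotient.mk_surjective _ y
    rw [Submodule.mem_bot, ← Submodule.Quotient.mk_smul, Submodule.Quotient.mk_eq_zero]
    exact ⟨(a • x).2, P.mul_mem_right _ ha⟩
  have hreg := rTensor_mulMap_injective f hU hf n _ hk
  have h0 : U.mkQ.lTensor M z = 0 := by
    have hz' : φ.lTensor M (U.mkQ.lTensor M z) = 0 := by
      rw [← LinearMap.lTensor_comp_apply, show φ ∘ₗ U.mkQ = P.mkQ ∘ₗ J.subtype from rfl,
        LinearMap.lTensor_comp_apply, hz, map_zero]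
    obtain ⟨k, hk'⟩ := exists_pow_smul_eq_zero f hU φ hφ _ hz'
    clear hz'
    generalize U.mkQ.lTensor M z = w at hk' ⊢
    induction k generalizing w with
    | zero => simpa using hk'
    | succ k ihk =>
      rw [pow_succ, mul_smul] at hk'
      have := ihk (f • w) hk'
      rw [← rTensor_mulMap] at this
      exact hreg (by rw [this, map_zero])
  obtain ⟨w, hw⟩ := (lTensor_exact M (LinearMap.exact_subtype_mkQ U) U.mkQ_surjective z).mp h0
  let e : U →ₗ[R] ↥(J ⊓ P) := LinearMap.codRestrict _ (J.subtype ∘ₗ U.subtype) fun x ↦ x.2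
  refine ⟨e.lTensor M w, ?_⟩
  rw [← hw, ← LinearMap.lTensor_comp_apply]
  rfl

end Groth.Agent.FlatOff
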